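/-
The involution count of `Deg2` for a character that is singled out by its behaviour on generalized characters of norm 3.
-/
import Cfsg.Agent.Inv.ABG.Deg2

set_option autoImplicit false

open scoped ComplexConjugate Classical
open Cfsg CL.Char CL.Blk CL.JTW CL.Grp Subgroup

namespace CL.ABG

variable {G : Type*} [Group G]

/-- `X` occurs in every generalized character of norm 3 that contains `1` and vanishes on `z` and on the elements of
order divisible by 4. -/
structure KeyChar [Fintype G] (z : G) (X : G → ℂ) : Prop where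
  irr : IsSIrr X
  one : classInner (fun _ => 1) X = 0
  key : ∀ θ, IsGeneralizedCharacter G θ → classInner θ θ = 3 → classInner θ (fun _ => 1) = 1 → θ z = 0 →
    (∀ g, 4 ∣ orderOf g → θ g = 0) → classInner θ X = 1

theorem ti_pair' [Fintype G] {Y M : Subgroup G} (hYM : Y ≤ M) (h2 : Y.relIndex M = 2) {lam : Y →* ℂˣ} (h0 : lam ≠ 1)
    (hodd : ∀ y, lam y * lam y = 1 → lam y = 1)
    (hinv : ∀ g ∈ M, g ∉ Y → ∀ y y' : Y, g * y * g⁻¹ = y' → lam y' = (lam y)⁻¹)
    (hTI : ∀ (g : G) (y y' : Y), lam y ≠ 1 → lam y' ≠ 1 → g * y * g⁻¹ = y' → g ∈ M)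
    {z : G} (hz : orderOf z = 2) (hc : ∀ v, orderOf v = 2 → IsConj z v) {X : G → ℂ} (hK : KeyChar z X)
    (h4 : ∀ y ∈ Y, ¬ 4 ∣ orderOf y) :
    X 1 + 1 ≠ 0 ∧ ((centralizer ({z} : Set G)).index : ℂ) ^ 2 * (X 1 - X z) ^ 2 * Nat.card Y =
      ({s | s ∈ M ∧ s ∉ Y ∧ s * s = 1}.ncard : ℂ) ^ 2 * Nat.card G * (X 1 * (X 1 + 1)) := by
  have hm := @mul_mem_iff_of_relIndex_two _ _ _ _ h2
  have hn : ∀ g ∈ M, ∀ y ∈ Y, g * y * g⁻¹ ∈ Y := fun g hg y hy => by
    rw [hm (mul_mem hg (hYM hy)) (inv_mem hg), hm hg (hYM hy), inv_mem_iff]; tauto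
  set θ : Y → ℂ := fun y => 1 - (lam y : ℂ) with hθ
  have hθ0 : ∀ y, lam y = 1 → θ y = 0 := fun y h => by simp [hθ, h]
  have hval : ∀ y : Y, lam y ≠ 1 → indFun Y θ y = (1 - (lam y : ℂ)) + (1 - (lam⁻¹ y : ℂ)) := fun y hy => by
    have h3 : ∀ x : G, extendByZero Y θ (x * y * x⁻¹) =
        (if x ∈ Y then ((lam⁻¹ y : ℂˣ) : ℂ) - lam y else 0) + if x ∈ M then 1 - ((lam⁻¹ y : ℂˣ) : ℂ) else 0 := fun x => by
      by_cases hx : x ∈ M
      · rw [extendByZero_of_mem _ (hn x hx _ y.2), if_pos hx, hθ]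
        split_ifs with hxY
        · simp only
          rw [show (⟨x * y * x⁻¹, _⟩ : Y) = ⟨x, hxY⟩ * y * ⟨x, hxY⟩⁻¹ from rfl]
          simp
        · simp only
          rw [hinv x hx hxY y ⟨_, hn x hx _ y.2⟩ rfl]; simp
      · rw [if_neg hx, if_neg fun h => hx (hYM h), add_zero]
        by_cases h : x * y * x⁻¹ ∈ Y
        · rw [extendByZero_of_mem _ h]
          exact hθ0 _ (by_contra fun h' => hx (hTI x y ⟨_, h⟩ hy h' rfl))
        · exact extendByZero_of_not_mem _ h
    have h4 : ∀ H : Subgroup G, ((Finset.univ.filter (· ∈ H)).card : ℂ) = Nat.card H := fun H => by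
      rw [Nat.card_eq_fintype_card, Fintype.card_subtype]
    simp only [indFun_apply', h3, Finset.sum_add_distrib, ← Finset.sum_filter, Finset.sum_const, nsmul_eq_mul, h4]
    rw [card_eq_relIndex_mul_card hYM, h2]
    field_simp [natCard_ne_zero]
    push_cast
    ring
  have hinner : ∀ ψ ψ' : Y → ℂ, (∀ y, lam y ≠ 1 → ψ y = ψ' y) → classInner θ ψ = classInner θ ψ' := fun ψ ψ' h => by
    simp only [classInner_def]
    refine congrArg _ (Finset.sum_congr rfl fun y _ => ?_)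
    by_cases hy : lam y = 1
    · simp [hθ0 y hy]
    · rw [h y hy]
  have hl : ∀ μ : Y →* ℂˣ, classInner θ (fun y => (μ y : ℂ)) = (if 1 = μ then 1 else 0) - if lam = μ then 1 else 0 :=
    fun μ => by rw [← classInner_monoidHom, ← classInner_monoidHom, ← classInner_sub_left]; rfl
  have hl1 : classInner θ (fun _ => 1) = 1 := by simpa [h0] using hl 1
  have hne : lam ≠ lam⁻¹ := fun e => h0 (MonoidHom.ext fun y => hodd y (by
    nth_rw 2 [e]; simp))
  have hgen : IsGeneralizedCharacter G (indFun Y θ) :=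
    isGeneralizedCharacter_indFun ⟨_, _, isIrrCharacter_one.isCharacter, (isIrrCharacter_linear lam).isCharacter, rfl⟩
  have h3 : classInner (indFun Y θ) (indFun Y θ) = 3 := by
    rw [frobenius_reciprocity _ (indFun_isClassFunction θ), hinner _ (((fun _ => 1) - fun y => (lam y : ℂ)) +
      ((fun _ => 1) - fun y => ((lam⁻¹ y : ℂˣ) : ℂ))) hval, classInner_add_right, classInner_sub_right,
      classInner_sub_right, hl1, hl, hl, if_neg h0.symm, if_pos rfl, if_neg hne, 
      if_neg fun e => h0 (MonoidHom.ext fun y => by simpa using (DFunLike.congr_fun e y).symm)]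
    norm_num
  have h1 : classInner (indFun Y θ) (fun _ => 1) = 1 := by rw [frobenius_reciprocity _ (isClassFunction_const 1), hl1]
  have hX := hK.irr
  have hz2 : z * z = 1 := by rw [← sq]; exact orderOf_dvd_iff_pow_eq_one.mp hz.dvd
  have hv0 : ∀ g, g * g = 1 → indFun Y θ g = 0 := fun g hg => indFun_eq_zero_of_conj θ fun x hx => hθ0 _ (hodd _ (by
      rw [← map_mul, ← map_one lam]; congr 1; ext; simp [mul_assoc, ← mul_assoc g g, hg]))
  have hXΘ := hK.key _ hgen h3 h1 (hv0 z hz2) fun g hg => indFun_eq_zero_of_conj θ fun x hx =>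
    absurd (by rwa [show orderOf (x⁻¹ * g * x) = orderOf g by simpa using (MulAut.conj x⁻¹).orderOf_eq g]) (h4 _ hx)
  obtain ⟨c, ht⟩ := exists_tri_of_two hgen h3 isSIrr_one hX hK.one h1 hXΘ
  have hv : ∀ g, g * g = 1 → c g = -(X g + 1) := fun g hg => by
    have := ht.apply g
    rw [hv0 g hg] at this
    linear_combination -this
  have hc1 : X 1 + 1 ≠ 0 := by simpa only [hv 1 (by simp), neg_ne_zero] using ht.hc.one_ne_zero
  set K := Finset.univ.filter fun s => s ∈ M ∧ s ∉ Y ∧ s * s = 1 with hKK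
  have hmem : ∀ {s}, s ∈ K ↔ s ∈ M ∧ s ∉ Y ∧ s * s = 1 := by simp [hKK]
  have hk : kappa z (extendByZero Y θ) = K.card ^ 2 := by
    have hsub : K ⊆ Finset.univ.filter (IsConj z) := fun s hs => by
      obtain ⟨-, a, b⟩ := hmem.mp hs
      simpa using hc s (orderOf_eq_prime (by rwa [sq]) fun e => a (e ▸ one_mem Y))
    have hsq : ∀ s ∈ Finset.univ.filter (IsConj z), s * s = 1 := fun s hs => by
      obtain ⟨g, rfl⟩ := isConj_iff.mp (by simpa using hs : IsConj z s)
      simp [hz2]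
    have key : ∀ s y : G, s * s = 1 → s * y * s⁻¹ = y⁻¹ → s ∉ K → extendByZero Y θ y = 0 := fun s y hs e hsK => by
      by_cases hy : y ∈ Y
      · rw [extendByZero_of_mem _ hy]
        refine hθ0 _ (by_contra fun h => hsK (hmem.mpr ⟨hTI s ⟨y, hy⟩ ⟨y, hy⟩⁻¹ h (by simpa using h) e, fun hsY =>
          h (hodd _ ?_), hs⟩))
        have : lam ⟨y, hy⟩⁻¹ = lam (⟨s, hsY⟩ * ⟨y, hy⟩ * ⟨s, hsY⟩⁻¹) := congrArg lam (Subtype.ext e.symm)
        simp only [map_mul, map_inv, mul_inv_cancel_comm] at this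
        exact mul_eq_one_iff_inv_eq.mpr this
      · exact extendByZero_of_not_mem _ hy
    have hY : ∀ u ∈ K, ∀ v ∈ K, u * v ∈ Y := fun u hu v hv => by
      rw [hm (hmem.mp hu).1 (hmem.mp hv).1]; simp [(hmem.mp hu).2.1, (hmem.mp hv).2.1]
    have hS : ∀ v ∈ K, ∑ u ∈ K, extendByZero Y (fun y => (lam y : ℂ)) (u * v) = 0 := fun v hv => by
      obtain ⟨y, hy⟩ : ∃ y, lam y ≠ 1 := by simpa [MonoidHom.ext_iff] using h0
      have hcj : ∀ y : Y, ∀ u ∈ K, y * u * (y : G)⁻¹ ∈ K := fun y u hu => by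
        obtain ⟨a, b, c⟩ := hmem.mp hu
        exact hmem.mpr ⟨mul_mem (mul_mem (hYM y.2) a) (inv_mem (hYM y.2)), fun h =>
          b (by simpa [mul_assoc] using hn _ (inv_mem (hYM y.2)) _ h), by simp [c]⟩
      have e := Finset.sum_nbij' (s := K) (t := K) (g := fun u => extendByZero Y (fun y => (lam y : ℂ)) (u * v))
        (f := fun u => lam y * lam y * extendByZero Y (fun y => (lam y : ℂ)) (u * v)) (fun u => y * u * (y : G)⁻¹)
        (fun u => y⁻¹ * u * (y⁻¹ : Y)⁻¹) (hcj y) (hcj y⁻¹) (by simp [mul_assoc]) (by simp [mul_assoc]) fun u hu => by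
          obtain ⟨a, b, c⟩ := hmem.mp hu
          have e1 := hinv u a b y⁻¹ ⟨_, hn u a _ y⁻¹.2⟩ rfl
          rw [extendByZero_of_mem _ (hY _ hu _ hv), extendByZero_of_mem _ (hY _ (hcj y u hu) _ hv),
            show (⟨y * u * (y : G)⁻¹ * v, hY _ (hcj y u hu) _ hv⟩ : Y) =
              y * ⟨_, hn u a _ y⁻¹.2⟩ * ⟨u * v, hY _ hu _ hv⟩ from Subtype.ext (by simp [mul_assoc]),
            map_mul, map_mul, e1]
          simp
      rw [← Finset.mul_sum] at e
      exact by_contra fun h => hy (hodd y (Units.ext (by simpa using (mul_eq_right₀ h).mp e)))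
    rw [JTW.kappa, ← Finset.sum_subset hsub fun u hu huK => Finset.sum_eq_zero fun v hv => key u _ (hsq u hu) (by
      rw [mul_inv_rev, inv_eq_of_mul_eq_one_right (hsq v hv), ← mul_assoc u u, hsq u hu, one_mul]) huK,
      Finset.sum_comm, ← Finset.sum_subset hsub fun v hv hvK => Finset.sum_eq_zero fun u hu => key v _ (hsq v hv) (by
      rw [mul_inv_rev, inv_eq_of_mul_eq_one_right (hsq v hv), inv_eq_of_mul_eq_one_right (hmem.mp hu).2.2, mul_assoc,
        mul_assoc, hsq v hv, mul_one]) hvK, Finset.sum_congr rfl fun v hv => show _ = (K.card : ℂ) by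
          rw [← sub_zero (K.card : ℂ), ← hS v hv, Finset.card_eq_sum_ones, Nat.cast_sum, ← Finset.sum_sub_distrib]
          exact Finset.sum_congr rfl fun u hu => by simp [extendByZero_of_mem _ (hY u hu v hv), hθ]]
    simp [sq]
  have e := kappa_indFun z θ
  rw [hk, ht.kappa, hv z hz2, hv 1 (by simp)] at e
  refine ⟨hc1, ?_⟩
  rw [show {s | s ∈ M ∧ s ∉ Y ∧ s * s = 1} = (K : Set G) by simp [hKK], Set.ncard_coe_finset]
  have := hX.one_ne_zero
  field_simp at e
  linear_combination e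

end CL.ABG
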