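/-
The character-theoretic core of Brauer's order formula for semidihedral Sylow 2-subgroups.
-/
import Cfsg.Agent.Inv.ABG.TorX
import Cfsg.Agent.Blk.AbelThree

set_option autoImplicit false

open scoped ComplexConjugate Pointwise Classical
open Cfsg CL.Char Subgroup CL.Blk

namespace CL.ABG

variable {M : Ideal AlgInt} {G : Type*} [Group G] [Fintype G]

theorem inner_lin_sub {A : Type*} [Group A] [Fintype A] {ν : A →* ℂˣ} (hν : ν ≠ 1) (μ : A →* ℂˣ) :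
    classInner (lin ν) (lin μ - lin 1) = pInd (ν = μ) := by
  rw [classInner_sub_right, classInner_lin, classInner_lin, if_neg hν, sub_zero, pInd]
  congr

theorem inner_one_sub {A : Type*} [Group A] [Fintype A] {μ : A →* ℂˣ} (hμ : μ ≠ 1) :
    classInner (lin 1) (lin μ - lin 1) = -1 := by
  rw [classInner_sub_right, classInner_lin, classInner_lin, if_neg hμ.symm, if_pos rfl, zero_sub]

theorem exists_notMem_list {α : Type*} [Finite α] (l : List α) (h : l.length < Nat.card α) : ∃ x, x ∉ l := by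
  by_contra! hc
  have := Fintype.ofFinite α
  have h1 : l.toFinset = Finset.univ := Finset.eq_univ_of_forall fun x => List.mem_toFinset.2 (hc x)
  have h2 := List.toFinset_card_le l
  rw [h1, Finset.card_univ, ← Nat.card_eq_fintype_card] at h2
  omega

/-- The vector of the principal character. -/
noncomputable def oneV (hM : IsPModular 2 M) (G : Type*) [Group G] [Fintype G] : PB M G → ℤ :=
  Pi.single ⟨irrOne G, irrOne_mem_principal hM⟩ 1

theorem dot_oneV (hM : IsPModular 2 M) {n : PB M G → ℤ} {F : PB M G → ℂ} (hn : ∀ i, (n i : ℂ) = F i) {k : ℤ}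
    (h : F ⟨irrOne G, irrOne_mem_principal hM⟩ = k) : n ⬝ᵥ oneV hM G = k := by
  rw [oneV, dotProduct_single, mul_one, ← Int.cast_inj (α := ℂ), hn, h]

theorem degV_dot {n : PB M G → ℤ} {F : PB M G → ℂ} (hn : ∀ i, (n i : ℂ) = F i)
    (h : ∑ χ, F χ * conj (χ.1.1 1) = 0) : degV M G ⬝ᵥ n = 0 := by
  rw [dotProduct_comm]
  exact dot_eq_of hn cast_degV (h.trans Int.cast_zero.symm)

theorem sd_core (hM : IsPModular 2 M) {z t : G} (hz : orderOf z = 2) {X : Subgroup G} [Fintype X]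
    (h : TX M (zpowers z) X t) {k : ℕ} (hk : 1 ≤ k) (hX : Nat.card X = 2 ^ (k + 2))
    {φ : centralizer ({z} : Set G) → ℂ} {Q : ℤ} {a b : ℕ} (L : LocZ M z (zpowers z) φ Q a b)
    (ha : a = 2 ^ (k + 1)) (hb : b = 2) (hQ : (2 ^ (k + 2) : ℤ) ∣ Q - 1 + 2 ^ (k + 1)) {sg : X →* ℂˣ}
    (hs1 : sg ≠ 1) (hss : h.sc sg = sg) (hsz : ∀ c, sg (inclusion h.le c) = 1)
    (hfix : ∀ μ, h.sc μ = μ → μ = 1 ∨ μ = sg)
    (hpar : ∀ χ : PB M G, ∃ m : ℤ, classInner (fun x : X => χ.1.1 x) (lin sg - lin 1) = χ.1.1 z + 2 * m)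
    {γ : ℚ} (hγ : γ ≠ 0)
    (hpz : ∀ y : centralizer ({z} : Set G), ¬ 2 ∣ orderOf y →
      ∑ χ : PB M G, χ.1.1 (z * y) * (χ.1.1 z * χ.1.1 z / χ.1.1 1) = γ * (2 * (1 + φ y / Q)))
    (hpx : ∀ x : X, (x : G) ∉ zpowers z →
      ∑ χ : PB M G, χ.1.1 x * (χ.1.1 z * χ.1.1 z / χ.1.1 1) = γ * ((1 + lin sg x) * (1 + 1 / Q))) :
    ∃ f x : ℤ, (2 ^ (k + 2) : ℤ) ∣ f + Q ∧ f ≠ 0 ∧ x * (f - (-Q) ^ 2) = f * ((-Q) ^ 2 - 1) ∧
      ((-Q : ℤ) : ℚ) * (f - (-Q : ℤ)) ^ 2 = γ * (((-Q : ℤ) - 1) * f * (f - 1)) := by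
  obtain ⟨k, rfl⟩ := Nat.exists_eq_add_of_le' hk
  obtain ⟨c, hc⟩ := hQ
  have hQ : Q = 1 - 4 * 2 ^ k + 8 * 2 ^ k * c := by linear_combination hc
  have hQ4 : Q = 1 + 4 * (2 * 2 ^ k * c - 2 ^ k) := by linear_combination hQ
  have hQ0 : Q ≠ 0 := by omega
  have hQ1 : -Q - 1 ≠ 0 := by omega
  have hQ' : (Q : ℂ) ≠ 0 := Int.cast_ne_zero.2 hQ0
  have hz2 : z * z = 1 := by rw [← sq, ← hz, pow_orderOf_eq_one]
  set c₀ : zpowers z := ⟨z, mem_zpowers z⟩
  have hz1 : z ≠ 1 := fun e => by simp [e] at hz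
  have hc₀ : c₀ ≠ 1 := fun e => hz1 (congrArg Subtype.val e)
  have hZ : ∀ x : X, x ≠ 1 → (x : G) ∈ zpowers z → (x : G) = c₀ := fun x hx hx' =>
    (eq_one_or_eq_of_mem_zpowers hz2 hx').resolve_left fun e => hx (Subtype.ext e)
  have ha' : Nat.card X = 2 * a := by rw [hX, ha]; ring
  have h0 : ∀ μ : X →* ℂˣ, (lin μ - lin 1 : X → ℂ) 1 = 0 := fun μ => by simp
  choose W hW using fun μ : X →* ℂˣ => h.NV_int L (m := 2 ^ (k + 2)) (by rw [hX, Nat.card_zpowers, hz]; ring)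
    ⟨1 - 2 * c, by rw [hQ]; push_cast; ring⟩ (h0 μ) ((isGenChar_lin μ).sub (isGenChar_lin 1))
  choose zv hzv using fun χ : PB M G => exists_int_of_mul_self χ.1.2.isGeneralizedCharacter hz2
  choose e₂ he₂ using fun χ => exists_int_of_mul_self (L.gen₂ χ) (u := c₀) (Subtype.ext hz2)
  choose m hm using hpar
  have hE : ∀ χ, ((zv χ - e₂ χ * (Q + 1) : ℤ) : ℂ) = L.neg.E c₀ χ := fun χ => by
    have h1 := L.apply_eq hc₀ χ
    rw [L.neg_E]
    push_cast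
    rw [← hzv, ← he₂]
    linear_combination h1
  set Ev : PB M G → ℤ := fun χ => zv χ - e₂ χ * (Q + 1)
  set y : PB M G → ℤ := fun χ => m χ + e₂ χ * (1 - 2 * 2 ^ k + 4 * 2 ^ k * c)
  have hy : ∀ u, 2 * y ⬝ᵥ u = W sg ⬝ᵥ u - Ev ⬝ᵥ u := fun u => by
    rw [← sub_dotProduct, ← smul_eq_mul, ← smul_dotProduct]
    congr 1
    funext χ
    have h1 := hW sg χ
    rw [h.NV_eq L (h0 sg), hm, show (fun c => (lin sg - lin 1 : X → ℂ) (inclusion h.le c)) = 0 from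
      funext fun c => by simp [lin_apply, hsz], classInner_zero_right, mul_zero, add_zero, hzv] at h1
    have h2 : W sg χ = zv χ + 2 * m χ := by exact_mod_cast h1
    simp only [Pi.smul_apply, smul_eq_mul, Pi.sub_apply, y, Ev, h2, hQ]
    ring
  -- the Gram matrix
  have hWW : ∀ μ ν, μ ≠ 1 → ν ≠ 1 → ((W μ ⬝ᵥ W ν : ℤ) : ℂ) = 2 + pInd (ν = μ) + pInd (h.sc ν = μ) :=
    fun μ ν hμ hν => by rw [cast_dot, ← h.gram_lin L hM ha' hμ hν]; simp only [hW]
  have hWE : ∀ μ, Ev ⬝ᵥ W μ = 0 := fun μ => by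
    rw [dotProduct_comm]
    refine dot_eq_of (hW μ) hE ?_
    rw [L.sum_NV_mul (h0 μ) _ (f := 0) fun x hx => ?_, classInner_zero_left, Int.cast_zero]
    by_cases hx' : (x : G) ∈ zpowers z
    · simp only [hZ x hx hx', h.col_of_mem L]
      rw [LocZ.conj_sum (L.gram_neg hc₀), map_zero, Pi.zero_apply]
    · simp only [h.col_of_notMem L x.2 hx']
      rw [LocZ.conj_sum (L.neg.orth hM hc₀ (isPPart_self Nat.prime_two (exists_orderOf_eq_of_mem h.isP x.2))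
        fun e => hx' (h.eq_of_isConj c₀.2 x.2 e ▸ c₀.2)), map_zero, Pi.zero_apply]
  have hEE : Ev ⬝ᵥ Ev = 8 := dot_eq_of hE hE (by rw [L.neg.gram hc₀, hb]; norm_num)
  set o := oneV hM G
  have hWo : ∀ μ, μ ≠ 1 → W μ ⬝ᵥ o = -1 := fun μ hμ =>
    dot_oneV hM (hW μ) (by rw [L.NV_one hM (h0 μ), inner_one_sub hμ]; norm_num)
  have hEo : Ev ⬝ᵥ o = 1 := dot_oneV hM hE (by rw [L.neg.one_apply hM hc₀]; norm_num)
  have hdW : ∀ μ, degV M G ⬝ᵥ W μ = 0 := fun μ => degV_dot (hW μ) (L.NV_reg hM h.isP (h0 μ) (by simp))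
  have hdE : degV M G ⬝ᵥ Ev = 0 := degV_dot hE (L.neg.orth hM hc₀ (isPPart_one (by simp))
    fun e => hz1 (isConj_one_left.1 e))
  have hdo : degV M G ⬝ᵥ o = 1 := dot_oneV hM cast_degV (by simp)
  have hJ1 : ∀ j : {μ // h.sc μ ≠ μ}, j.1 ≠ 1 := fun j e => j.2 (by rw [e, h.sc_one])
  have hJs : ∀ j : {μ // h.sc μ ≠ μ}, j.1 ≠ sg := fun j e => j.2 (by rw [e, hss])
  have hJ2 : ∀ j l : {μ // h.sc μ ≠ μ}, l.1 ≠ j.1 → h.sc l.1 ≠ j.1 → -W j.1 ⬝ᵥ -W l.1 = 2 := fun j l h1 h2 => by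
    rw [neg_dotProduct_neg, ← Int.cast_inj (α := ℂ), hWW _ _ (hJ1 j) (hJ1 l), pInd_neg h1, pInd_neg h2]
    norm_num
  have hvv : W sg ⬝ᵥ W sg = 4 := by
    rw [← Int.cast_inj (α := ℂ), hWW _ _ hs1 hs1, pInd_pos rfl, pInd_pos hss]; norm_num
  have hva : ∀ j : {μ // h.sc μ ≠ μ}, W sg ⬝ᵥ -W j.1 = -2 := fun j => by
    rw [dotProduct_neg, neg_inj, ← Int.cast_inj (α := ℂ), hWW _ _ hs1 (hJ1 j), pInd_neg (hJs j),
      pInd_neg fun e => hJs j (by rw [h.sc_eq_iff.1 e, hss])]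
    norm_num
  have hcard : ∀ l : List (X →* ℂˣ), l.length ≤ 6 → ∃ μ, μ ∉ l := fun l hl => exists_notMem_list l (by
    rw [card_lin h.comm, hX, pow_add, pow_add]; have := Nat.one_le_two_pow (n := k); omega)
  have hnf : ∀ μ, μ ≠ 1 → μ ≠ sg → h.sc μ ≠ μ := fun μ h1 h2 e => (hfix μ e).elim h1 h2
  obtain ⟨μ₁, h1⟩ := hcard [1, sg] (by simp)
  obtain ⟨μ₂, h2⟩ := hcard [1, sg, μ₁, h.sc μ₁] (by simp)
  obtain ⟨μ₃, h3⟩ := hcard [1, sg, μ₁, h.sc μ₁, μ₂, h.sc μ₂] (by simp)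
  simp only [List.mem_cons, List.not_mem_nil, or_false, not_or] at h1 h2 h3
  set j₁ : {μ // h.sc μ ≠ μ} := ⟨μ₁, hnf _ h1.1 h1.2⟩
  have hyv := hy (W sg)
  have hyE := hy Ev
  have hyy := hy y
  rw [dotProduct_comm (W sg), hWE, hEE] at hyE
  rw [hWE, hvv] at hyv
  rw [dotProduct_comm (W sg), dotProduct_comm Ev] at hyy
  obtain ⟨X₁, X₂, A, B, D, u1, u2, uA, uB, uD, hP, hD, hDD, eA, ev', ey⟩ :=
    sd_lattice o (degV M G) (W sg) y (fun j : {μ // h.sc μ ≠ μ} => -W j.1) (isU_single _ (Or.inl rfl)) hdo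
      (fun j => by
        rw [neg_dotProduct_neg, ← Int.cast_inj (α := ℂ), hWW _ _ (hJ1 j) (hJ1 j), pInd_pos rfl, pInd_neg j.2]
        norm_num)
      (fun j l => by
        by_cases e1 : l.1 = j.1
        · exact Or.inr (by rw [e1])
        by_cases e2 : h.sc l.1 = j.1
        · refine Or.inr (congrArg _ (funext fun χ => ?_))
          rw [← Int.cast_inj (α := ℂ), hW, hW, ← e2, ← h.NV_sc L l.1, h.sc_one]
        exact Or.inl (hJ2 j l e1 e2))
      (j₁ := j₁) (j₂ := ⟨μ₂, hnf _ h2.1 h2.2.1⟩) (j₃ := ⟨μ₃, hnf _ h3.1 h3.2.1⟩)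
      (hJ2 _ _ h2.2.2.1 (mt h.sc_eq_iff.1 h2.2.2.2)) (hJ2 _ _ h3.2.2.1 (mt h.sc_eq_iff.1 h3.2.2.2.1))
      (hJ2 _ _ h3.2.2.2.2.1 (mt h.sc_eq_iff.1 h3.2.2.2.2.2))
      (fun j => by rw [neg_dotProduct, hWo _ (hJ1 j), neg_neg]) (fun j => by rw [dotProduct_neg, hdW, neg_zero])
      hvv (hWo _ hs1) hva (hdW _) (by omega) (by have := hy o; rw [hWo _ hs1, hEo] at this; omega)
      (fun j => by have := hy (-W j.1); rw [hva, dotProduct_neg Ev, hWE] at this; omega) (by omega)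
  simp only [List.pairwise_cons, List.mem_cons, List.not_mem_nil, or_false, forall_eq_or_imp, forall_eq] at hP
  obtain ⟨⟨o1, o2, oA, oB⟩, ⟨p12, p1A, p1B⟩, ⟨p2A, p2B⟩, pAB, -⟩ := hP
  -- values on the torus
  have val : ∀ (e : PB M G → ℤ) (f : X → ℂ), ((W sg ⬝ᵥ e : ℤ) : ℂ) = classInner f (lin sg - lin 1) →
      (∀ j : {μ // h.sc μ ≠ μ}, ((-(-W j.1 ⬝ᵥ e) : ℤ) : ℂ) = classInner f (lin j.1 - lin 1)) →
      ∀ x : X, x ≠ 1 → ev e (L.col x) = f x := fun e f e1 e2 x hx => L.ev_col h.comm 1 e (fun ψ => by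
    rw [ev_of_int (hW ψ)]
    by_cases e3 : h.sc ψ = ψ
    · rcases hfix ψ e3 with rfl | rfl
      · rw [← ev_of_int (hW 1), sub_self, classInner_zero_right]
        simp [ev, LocZ.NV, classInner_zero_right]
      · exact e1
    · simpa using e2 ⟨ψ, e3⟩) hx
  have hx₀ : inclusion h.le c₀ ≠ 1 := fun e => hz1 (congrArg Subtype.val e)
  have valz : ∀ (e : PB M G → ℤ) (f : X → ℂ) (r s : ℤ), (∀ x : X, x ≠ 1 → ev e (L.col x) = f x) →
      f (inclusion h.le c₀) = r → Ev ⬝ᵥ e = s → 2 * zv ⬝ᵥ e = (1 + Q) * r + (1 - Q) * s := fun e f r s e1 e2 e3 => by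
    have e4 := e1 _ hx₀
    rw [coe_inclusion, funext (h.col_of_mem L c₀), e2] at e4
    have e5 : (fun χ : PB M G => χ.1.1 z) = _ := funext fun χ => by
      simpa only [coe_one, mul_one, L.one] using L.apply_eq_E hc₀ 1 (by simp) (by simp) χ
    rw [← Int.cast_inj (α := ℂ), Int.cast_mul, ← ev_of_int (fun χ => (hzv χ).symm), e5, ev_lin, e4,
      ev_of_int hE, e3]
    push_cast
    ring
  have hEv : ∀ u, Ev ⬝ᵥ u = o ⬝ᵥ u + 2 * X₁ ⬝ᵥ u + X₂ ⬝ᵥ u - A ⬝ᵥ u - B ⬝ᵥ u := fun u => by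
    have := hy u
    rw [ey, ev'] at this
    simp only [sub_dotProduct, add_dotProduct, neg_dotProduct] at this
    omega
  have hvu : ∀ u, W sg ⬝ᵥ u = -(o ⬝ᵥ u) + X₂ ⬝ᵥ u + A ⬝ᵥ u - B ⬝ᵥ u := fun u => by
    simp only [ev', sub_dotProduct, add_dotProduct, neg_dotProduct]
  have hau : ∀ (j : {μ // h.sc μ ≠ μ}) u, -W j.1 ⬝ᵥ u = o ⬝ᵥ u - X₂ ⬝ᵥ u + D j ⬝ᵥ u := fun j u => by
    simp only [eA j, sub_dotProduct, add_dotProduct]
  have c21 := (dotProduct_comm X₂ X₁).trans p12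
  have cA1 := (dotProduct_comm A X₁).trans p1A
  have cB1 := (dotProduct_comm B X₁).trans p1B
  have cA2 := (dotProduct_comm A X₂).trans p2A
  have cB2 := (dotProduct_comm B X₂).trans p2B
  have cBA := (dotProduct_comm B A).trans pAB
  unfold IsU at u1 u2 uA uB
  have v1 := valz X₁ 0 0 2 (val _ _ (by rw [hvu, o1, c21, cA1, cB1, classInner_zero_left]; simp)
    fun j => by rw [hau, o1, c21, (hD j).2.1, classInner_zero_left]; simp) (by simp)
    (by rw [hEv, o1, u1, c21, cA1, cB1]; simp)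
  have w2 := val X₂ (-lin 1) (by rw [hvu, o2, u2, cA2, cB2, classInner_neg_left, inner_one_sub hs1]; simp)
    fun j => by rw [hau, o2, u2, (hD j).2.2.1, classInner_neg_left, inner_one_sub (hJ1 j)]; simp
  have v2 := valz X₂ _ (-1) 1 w2 (by simp) (by rw [hEv, o2, u2, p12, cA2, cB2]; simp)
  have vA := valz A (lin sg) 1 (-1) (val _ _
    (by rw [hvu, oA, p2A, uA, cBA, inner_lin_sub hs1, pInd_pos rfl]; simp)
    fun j => by rw [hau, oA, p2A, (hD j).2.2.2.1, inner_lin_sub hs1, pInd_neg (hJs j).symm]; simp)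
    (by simp [lin_apply, hsz]) (by rw [hEv, oA, uA, p1A, p2A, cBA]; simp)
  have vB := valz B (-lin sg) (-1) (-1) (val _ _
    (by rw [hvu, oB, p2B, uB, pAB, classInner_neg_left, inner_lin_sub hs1, pInd_pos rfl]; simp)
    fun j => by
      rw [hau, oB, p2B, (hD j).2.2.2.2, classInner_neg_left, inner_lin_sub hs1, pInd_neg (hJs j).symm]; simp)
    (by simp [lin_apply, hsz]) (by rw [hEv, oB, uB, p1B, p2B, pAB]; simp)
  obtain ⟨d0, d1, d2, dA, dB⟩ := hD j₁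
  rw [dotProduct_comm] at d0 d1 d2 dA dB
  obtain ⟨ε, hε1, hε⟩ : ∃ ε : ℤ, ε ^ 2 = 1 ∧ lin μ₁ (inclusion h.le c₀) = ε := by
    have e1 : lin μ₁ (inclusion h.le c₀) * lin μ₁ (inclusion h.le c₀) = 1 := by
      rw [lin_apply, ← Units.val_mul, ← map_mul, ← map_mul, show c₀ * c₀ = 1 from Subtype.ext hz2]; simp
    rcases mul_self_eq_one_iff.1 e1 with e | e
    exacts [⟨1, by simp, by simp [e]⟩, ⟨-1, by simp, by simp [e]⟩]
  have hs₁ : h.sc μ₁ ≠ 1 := fun e => h1.1 (h.sc_eq_iff.1 e)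
  have vD := valz (D j₁) (-(lin μ₁ + lin (h.sc μ₁))) (-2 * ε) 0 (val _ _
    (by
      rw [hvu, d0, d2, dA, dB, classInner_neg_left, classInner_add_left, inner_lin_sub h1.1, inner_lin_sub hs₁,
        pInd_neg h1.2, pInd_neg fun e => h1.2 (by rw [h.sc_eq_iff.1 e, hss])]
      simp)
    fun j => by
      rw [hau, d0, d2, hDD, neg_dotProduct_neg, classInner_neg_left, classInner_add_left, inner_lin_sub h1.1,
        inner_lin_sub hs₁]
      push_cast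
      rw [hWW _ _ (hJ1 j) h1.1]
      ring)
    (by
      simp only [Pi.neg_apply, Pi.add_apply, lin_apply, h.sc_apply, h.s_inclusion]
      rw [← lin_apply, hε]; push_cast; ring)
    (by rw [hEv, d0, d1, d2, dA, dB]; simp)
  -- degrees
  have g1 := hdW sg
  have g2 := hdW μ₁
  have g3 := hy (degV M G)
  rw [dotProduct_comm, hvu, dotProduct_comm o, hdo] at g1
  rw [← neg_eq_zero, ← dotProduct_neg, dotProduct_comm, hau j₁, dotProduct_comm o, hdo] at g2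
  rw [dotProduct_comm (W sg), hdW, dotProduct_comm Ev, hdE, ey, sub_dotProduct, sub_dotProduct,
    dotProduct_comm o, hdo] at g3
  rw [dotProduct_comm X₂, dotProduct_comm A, dotProduct_comm B] at g1
  rw [dotProduct_comm X₂, dotProduct_comm (D _)] at g2
  rw [dotProduct_comm A, dotProduct_comm X₁] at g3
  set x := degV M G ⬝ᵥ X₁
  set f := degV M G ⬝ᵥ X₂
  have gA : degV M G ⬝ᵥ A = 1 + x := by omega
  have gB : degV M G ⬝ᵥ B = x + f := by omega
  have gD : degV M G ⬝ᵥ D j₁ = f - 1 := by omega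
  -- pair sums
  have hPE : ∑ χ, L.neg.E c₀ χ * (χ.1.1 z * χ.1.1 z / χ.1.1 1) = (2 * γ * (1 - 1 / Q) : ℚ) := by
    rw [L.neg.linE hc₀ _ (l₁ := γ * (1 - 1 / Q)) (l₂ := γ * (1 + 1 / Q)) fun y hy _ => by
      rw [hpz y hy]; ring]
    push_cast; ring
  have hPW : ∀ μ, pairW zv (degV M G) (W μ) = γ * (1 + 1 / Q) * if μ = 1 ∨ μ = sg then 0 else -1 := fun μ => by
    refine pairW_eq (fun χ => (hzv χ).symm) (hW μ) ?_
    rw [L.sum_NV_mul (h0 μ) _ (f := (γ * (1 + 1 / Q) : ℂ) • (lin 1 + lin sg)) fun x hx => ?_,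
      classInner_smul_left, classInner_add_left, inner_lin_sub hs1]
    · split_ifs with e
      · rcases e with rfl | rfl
        · simp [classInner_zero_right, pInd_neg hs1]
        · simp [inner_one_sub hs1, pInd_pos]
      · rw [inner_one_sub (not_or.1 e).1, pInd_neg (Ne.symm (not_or.1 e).2)]; simp
    by_cases hx' : (x : G) ∈ zpowers z
    · obtain rfl : x = inclusion h.le c₀ := Subtype.ext (hZ x hx hx')
      simp only [coe_inclusion, h.col_of_mem L]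
      rw [L.linE hc₀ _ (l₁ := γ * (1 + 1 / Q)) (l₂ := γ * (1 - 1 / Q)) fun y hy _ => by rw [hpz y hy]; ring]
      simp [lin_apply, hsz]; ring
    · simp only [h.col_of_notMem L x.2 hx']
      rw [hpx x hx']
      simp; ring
  have hPo : pairW zv (degV M G) o = 1 := by
    rw [IsU.pairW (e := o) (isU_single _ (Or.inl rfl)), hdo, dot_oneV hM (fun χ => (hzv χ).symm) (k := 1) (by simp)]
    simp
  have q1 := hPW sg
  have q2 := hPW μ₁
  have q3 : 2 * pairW zv (degV M G) y = pairW zv (degV M G) (W sg) - pairW zv (degV M G) Ev := by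
    rw [← pairW_sub, two_mul, ← pairW_add]
    congr 1
    funext χ
    simpa [two_mul] using hy (Pi.single χ 1)
  rw [pairW_eq (fun χ => (hzv χ).symm) hE hPE, q1, if_pos (Or.inr rfl), ey, pairW_sub, pairW_sub, hPo,
    IsU.pairW uA, IsU.pairW u1, gA, show zv ⬝ᵥ A = Q by omega, show zv ⬝ᵥ X₁ = 1 - Q by omega] at q3
  rw [if_pos (Or.inr rfl), ev', pairW_sub, pairW_add, pairW_add, pairW_neg, hPo, IsU.pairW uA, IsU.pairW u2,
    IsU.pairW uB, gA, gB, show zv ⬝ᵥ A = Q by omega, show zv ⬝ᵥ X₂ = -Q by omega,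
    show zv ⬝ᵥ B = -1 by omega] at q1
  rw [if_neg (not_or.2 h1), ← neg_inj, ← pairW_neg, eA j₁, pairW_add, pairW_sub, hPo, IsU.pairW u2,
    IsU.pairW (uD j₁), gD, show zv ⬝ᵥ X₂ = -Q by omega, show zv ⬝ᵥ D j₁ = -(1 + Q) * ε by linarith] at q2
  have hdvd : (2 ^ (k + 1 + 2) : ℤ) ∣ f - Q + 2 := by
    obtain ⟨n, hn⟩ := ((IsU.isSB u2).gen.restrict X).exists_int_classInner (isGenChar_lin 1)
    have e1 : ∀ x : X, chr X₂ x = -1 + (if x = 1 then (f + 1 : ℂ) else 0) +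
        if x = inclusion h.le c₀ then (1 - Q : ℂ) else 0 := fun x => by
      by_cases e2 : x = 1
      · rw [e2, if_pos rfl, if_neg hx₀.symm, chr, coe_one, ev_of_int cast_degV]; ring
      by_cases e3 : x = inclusion h.le c₀
      · rw [if_neg e2, if_pos e3, e3, chr, coe_inclusion, ev_of_int fun χ => (hzv χ).symm,
          show zv ⬝ᵥ X₂ = -Q by omega]
        push_cast; ring
      · rw [if_neg e2, if_neg e3, chr, ← funext (h.col_of_notMem L x.2 fun e => e3 (Subtype.ext (hZ x e2 e))),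
          w2 x e2]
        simp
    simp only [classInner_def, e1, lin_one_apply, map_one, mul_one, Finset.sum_add_distrib, Finset.sum_ite_eq',
      Finset.mem_univ, if_true, Finset.sum_const, Finset.card_univ, ← Nat.card_eq_fintype_card, hX] at hn
    refine ⟨n + 1, Int.cast_injective (α := ℂ) ?_⟩
    push_cast at hn ⊢
    field_simp at hn
    linear_combination hn
  obtain ⟨w, hw⟩ := hdvd
  have hε' : (ε : ℚ) ^ 2 = 1 := by exact_mod_cast hε1
  have hQq : (Q : ℚ) ≠ 0 := Int.cast_ne_zero.2 hQ0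
  have hf := IsU.dot_ne_zero (d := degV M G) u2 degV_ne_zero
  refine ⟨f, x, ⟨w + 2 * c - 1, by linear_combination hw + 2 * hQ⟩, hf, sd_arith (γ := γ)
    (IsU.dot_ne_zero u1 degV_ne_zero) (gA ▸ IsU.dot_ne_zero uA degV_ne_zero) hf
    (gD ▸ IsU.dot_ne_zero (uD j₁) degV_ne_zero) (gB ▸ IsU.dot_ne_zero uB degV_ne_zero) (neg_ne_zero.2 hQ0) hQ1 hγ
    (fun e => ?_) ?_ ?_ ?_⟩
  · have : 2 = 8 * (2 ^ k * w) := by linear_combination hw - e
    omega
  · push_cast at q3 ⊢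
    linear_combination q3 / 2 + γ * mul_inv_cancel₀ hQq
  · push_cast at q2 ⊢
    linear_combination q2 - (1 + Q) ^ 2 / (f - 1) * hε' - γ * mul_inv_cancel₀ hQq
  · push_cast at q1 ⊢
    linear_combination q1

end CL.ABG
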