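/-
The characters of small degree in the principal 2-block, wreathed case.
-/
import Cfsg.Agent.Inv.ABG.Weak2

set_option autoImplicit false

open scoped ComplexConjugate Pointwise Classical
open Cfsg CL.Char Subgroup CL.Blk CL.Inv

namespace CL.ABG

variable {M : Ideal AlgInt} {G : Type*} [Group G] [Fintype G]

theorem wr_coreW (hM : IsPModular 2 M) {z t : G} {Z U X : Subgroup G} {W : Subgroup (MulAut U)} [Fintype W]
    {s w : MulAut U} [Fintype U] [Fintype X] (h : TU M z Z U W s w) (hx : TX M Z X t) {m : ℕ}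
    (hZ : Nat.card Z = 4 * m) (hU : Nat.card U = 4 * m * (4 * m)) (hX : Nat.card X = 4 * m * 2)
    {φ : centralizer ({z} : Set G) → ℂ} {Q : ℤ} {a b : ℕ} (L : LocZ M z Z φ Q a b) (ha : 4 * m * (4 * m) = 2 * a)
    (hb : b = 4 * m) {k : ℤ} (hQ : 1 - Q = 4 * m * (2 * k + 1))
    (hUX : ∀ (u : U) (x : X), IsConj (u : G) x → (x : G) ∈ Z) {J : Type*} (aU : J → U →* ℂˣ) (aX : J → X →* ℂˣ)
    (iU : Function.Injective aU) (iX : Function.Injective aX) (hU1 : ∀ j, aU j ≠ 1) (hX1 : ∀ j, aX j ≠ 1)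
    (hXs : ∀ j, hx.sc (aX j) = aX j) (sU : ∀ μ, μ ≠ 1 → (∀ u, μ (s u) = μ u) → ∃ j, μ = aU j)
    (sX : ∀ ψ, ψ ≠ 1 → hx.sc ψ = ψ → ∃ j, ψ = aX j)
    (hUX' : ∀ j c, aU j (inclusion h.le c) = aX j (inclusion hx.le c)) {ψ₀ : X →* ℂˣ} (hψ₀ : hx.sc ψ₀ ≠ ψ₀)
    (hJ : ∀ j : J, ∃ k l : J, j ≠ k ∧ j ≠ l ∧ k ≠ l)
    (hpar : ∀ j (χ : PB M G), ∃ n : ℤ, classInner (fun u : U => χ.1.1 u) (lin (aU j) - lin 1) +
      classInner (fun x : X => χ.1.1 x) (lin (aX j) - lin 1) = 2 * n)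
    {Y : Subgroup U} (hY : Nat.card Y = 4 * m) (hYs : ∀ u, s u * u⁻¹ ∈ Y)
    (hYz : ∀ y ∈ Y, y ≠ 1 → z ∈ zpowers (y : G)) (hzY : ⟨z, h.le h.zmem⟩ ∈ Y)
    (hYZ : ∀ y ∈ Y, (y : G) ∈ Z → (y : G) = 1 ∨ y = z) (hYa : ∀ j, ∀ y ∈ Y, aU j y = 1) {j₁ j₂ : J}
    (h₁ : aU j₁ (w ⟨z, h.le h.zmem⟩) = 1) (h₂ : aU j₂ (w ⟨z, h.le h.zmem⟩) = -1) {γ : ℚ}
    (hp0 : ∀ c ∈ Z, c ≠ 1 → c ≠ z → ∀ y : centralizer ({z} : Set G), ¬ 2 ∣ orderOf y → Commute c y →
      ∑ χ : PB M G, χ.1.1 (c * y) * (χ.1.1 z * χ.1.1 z / χ.1.1 1) = 0)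
    (hpz : ∀ y : centralizer ({z} : Set G), ¬ 2 ∣ orderOf y →
      ∑ χ : PB M G, χ.1.1 (z * y) * (χ.1.1 z * χ.1.1 z / χ.1.1 1) =
        γ * (2 * m * (2 * (1 + φ y / Q) + 4 * (2 * m - 1) * (1 + φ y) / (1 + Q))))
    (hpx : ∀ x : X, (x : G) ∉ Z → ∑ χ : PB M G, χ.1.1 x * (χ.1.1 z * χ.1.1 z / χ.1.1 1) = 0)
    (hpu : ∀ u : U, z ∈ zpowers (u : G) → (u : G) ∉ Z →
      ∑ χ : PB M G, χ.1.1 u * (χ.1.1 z * χ.1.1 z / χ.1.1 1) =
        γ * (2 * m * (2 * (1 + 1 / Q) - 8 / (1 + Q))) * pInd (u ∈ Y)) :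
    HasY hM z (fun χ => L.NV U (lin (aU j₂) - lin 1) χ + L.neg.NV X (lin (aX j₂) - lin 1) χ) (Q ^ 2 + Q) (-Q) := by
  have := Fintype.ofFinite Z
  have hm : (m : ℂ) ≠ 0 := fun e => natCard_ne_zero (G := Z) (by rw [hZ, Nat.cast_mul, e, mul_zero])
  have hm' : (m : ℤ) ≠ 0 := by exact_mod_cast hm
  have hQ4 : Q = 1 - 4 * (m * (2 * k + 1)) := by linear_combination -hQ
  have hQ0 : Q ≠ 0 := by omega
  have hQ1 : Q ≠ 1 := fun e => mul_ne_zero hm' (show 2 * k + 1 ≠ 0 by omega) (by omega)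
  have hQ2 : Q + 1 ≠ 0 := by omega
  have hQc : (1 - Q : ℂ) = 4 * m * (2 * k + 1) := by exact_mod_cast hQ
  have hQ2c : (1 + Q : ℂ) ≠ 0 := by exact_mod_cast (add_comm Q 1 ▸ hQ2 :)
  have hz2 : z * z = 1 := by rw [← sq, ← h.hz, pow_orderOf_eq_one]
  have hz1 : z ≠ 1 := fun e => by simpa [e] using h.hz
  set c₀ : Z := ⟨z, h.zmem⟩
  have hc₀ : c₀ ≠ 1 := fun e => hz1 (congrArg Subtype.val e)
  set z₀ : U := ⟨z, h.le h.zmem⟩
  have hz₀ : z₀ ≠ 1 := fun e => hz1 (congrArg Subtype.val e)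
  set x₀ : X := ⟨z, hx.le h.zmem⟩
  have hx₀ : x₀ ≠ 1 := fun e => hz1 (congrArg Subtype.val e)
  have ha' : Nat.card U = 2 * a := hU.trans ha
  have hb' : Nat.card X = 2 * b := by rw [hX, hb, mul_comm]
  have h0 : ∀ μ : U →* ℂˣ, (lin μ - lin 1 : U → ℂ) 1 = 0 := fun μ => by simp
  have h0' : ∀ μ : X →* ℂˣ, (lin μ - lin 1 : X → ℂ) 1 = 0 := fun μ => by simp
  have hg : ∀ {A : Type _} [Group A] (μ : A →* ℂˣ), IsGeneralizedCharacter A (lin μ - lin 1) := fun μ =>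
    (isGenChar_lin μ).sub (isGenChar_lin 1)
  have hUs : ∀ j u, aU j (s u) = aU j u := fun j u => by simpa [mul_inv_eq_one] using hYa j _ (hYs u)
  have hf : (1 - Q : ℂ) * Nat.card Z / Nat.card U = 2 * k + 1 := by rw [hQc, hZ, hU]; push_cast; field_simp
  have hf' : (1 - (-Q : ℤ) : ℂ) * Nat.card Z / Nat.card X = 1 - 2 * m * (2 * k + 1) := by
    rw [hZ, hX]; push_cast; field_simp; linear_combination -hQc
  have hD : ∀ (μ : U →* ℂˣ) (ω : MulAut U) χ, ∃ n : ℤ,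
      classInner (L.D₂ χ) (fun c => (lin μ - lin 1 : U → ℂ) (ω (inclusion h.le c))) = n := fun μ ω χ =>
    (L.gen₂ χ).exists_int_classInner (hg ((cmpA μ ω).comp (inclusion h.le)))
  have hWU : ∀ (μ : U →* ℂˣ) χ, ∃ n : ℤ, (n : ℂ) = L.NV U (lin μ - lin 1) χ := fun μ χ => by
    obtain ⟨n, hn⟩ := (χ.1.2.isGeneralizedCharacter.restrict U).exists_int_classInner (hg μ)
    obtain ⟨n₁, h1⟩ := hD μ 1 χ
    obtain ⟨n₂, h2⟩ := hD μ w χ
    obtain ⟨n₃, h3⟩ := hD μ (w * w) χ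
    simp only [MulAut.one_apply, MulAut.mul_apply] at h1 h3
    exact ⟨n + (2 * k + 1) * (n₁ + n₂ + n₃), by rw [h.NV_eq L (h0 μ), hf, hn, h1, h2, h3]; push_cast; ring⟩
  choose WU hWU using hWU
  choose WX hWX using fun ψ : X →* ℂˣ => hx.NV_int L.neg (m := 2) (by rw [hX, hZ])
    ⟨1 - 2 * (m * (2 * k + 1)), by rw [hQ4]; push_cast; ring⟩ (h0' ψ) (hg ψ)
  have hy : ∀ j χ, ∃ n : ℤ, 2 * n = WU (aU j) χ + WX (aX j) χ := fun j χ => by
    obtain ⟨n, hn⟩ := hpar j χ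
    obtain ⟨n₁, h1⟩ := hD (aU j) 1 χ
    obtain ⟨n₂, h2⟩ := hD (aU j) w χ
    simp only [MulAut.one_apply] at h1
    have h3 : (fun c => (lin (aU j) - lin 1 : U → ℂ) (w (w (inclusion h.le c)))) =
        fun c => (lin (aU j) - lin 1 : U → ℂ) (w (inclusion h.le c)) := funext fun c => by
      rw [← (h.sfix (inclusion h.le c)).2 c.2, ← h.sw, (h.sfix (inclusion h.le c)).2 c.2]
      simp [lin_apply, hUs]
    have h4 : (fun c => (lin (aX j) - lin 1 : X → ℂ) (inclusion hx.le c)) =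
        fun c => (lin (aU j) - lin 1 : U → ℂ) (inclusion h.le c) := funext fun c => by simp [lin_apply, hUX']
    refine ⟨n + (k + m * (2 * k + 1)) * n₁ + (2 * k + 1) * n₂, Int.cast_injective (α := ℂ) ?_⟩
    push_cast
    rw [hWU, hWX, h.NV_eq L (h0 _), hx.NV_eq L.neg (h0' _), hf, hf', h3, h4, show L.neg.D₂ χ = -L.D₂ χ from rfl,
      classInner_neg_left, h1, h2]
    linear_combination -hn
  choose y hy using hy
  replace hy : ∀ j u, 2 * u ⬝ᵥ y j = u ⬝ᵥ WU (aU j) + u ⬝ᵥ WX (aX j) := fun j u => by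
    rw [← dotProduct_add, ← smul_eq_mul, ← dotProduct_smul]
    exact congrArg _ (funext (hy j))
  -- Gram matrices
  have gU : ∀ μ ν, μ ≠ 1 → ν ≠ 1 → ∀ r : ℤ, ∑ ω : W, pInd (cmpA ν ω.1 = μ) = r → WU μ ⬝ᵥ WU ν = 6 + r :=
    fun μ ν hμ hν r e => dot_eq_of (hWU μ) (hWU ν) (by rw [h.gram_lin L hM ha' hμ hν, e]; push_cast; ring)
  have gX : ∀ μ ν, μ ≠ 1 → ν ≠ 1 → ((WX μ ⬝ᵥ WX ν : ℤ) : ℂ) = 2 + pInd (ν = μ) + pInd (hx.sc ν = μ) :=
    fun μ ν hμ hν => by rw [cast_dot, ← hx.gram_lin L.neg hM hb' hμ hν]; simp only [hWX]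
  have gUX : ∀ μ ψ, WU μ ⬝ᵥ WX ψ = 0 := fun μ ψ => dot_eq_of (hWU μ) (hWX ψ)
    ((gram_cross (fun u : U => L.col u) (fun x : X => L.neg.col x) (h0 μ) (h0' ψ)
      (h.cross L hM hx.isP hUX)).trans Int.cast_zero.symm)
  have gXU : ∀ μ ψ, WX ψ ⬝ᵥ WU μ = 0 := fun μ ψ => (dotProduct_comm _ _).trans (gUX μ ψ)
  have gUU : ∀ j l, WU (aU j) ⬝ᵥ WU (aU l) = 6 + if l = j then 2 else 0 := fun j l =>
    gU _ _ (hU1 j) (hU1 l) _ (by
      rw [h.cnt_fix (hUs j) (hUs l) (hU1 l), iU.eq_iff, pInd]; split_ifs <;> simp)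
  have gXX : ∀ j l, WX (aX j) ⬝ᵥ WX (aX l) = 2 + if l = j then 2 else 0 := fun j l => by
    rw [← Int.cast_inj (α := ℂ), gX _ _ (hX1 j) (hX1 l), hXs, iX.eq_iff, pInd]; split_ifs <;> norm_num
  set o := oneV hM G
  have oU : ∀ μ, μ ≠ 1 → WU μ ⬝ᵥ o = -1 := fun μ hμ =>
    dot_oneV hM (hWU μ) (by rw [L.NV_one hM (h0 μ), inner_one_sub hμ]; norm_num)
  have oX : ∀ μ, μ ≠ 1 → WX μ ⬝ᵥ o = -1 := fun μ hμ =>
    dot_oneV hM (hWX μ) (by rw [L.neg.NV_one hM (h0' μ), inner_one_sub hμ]; norm_num)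
  have dU : ∀ μ, degV M G ⬝ᵥ WU μ = 0 := fun μ => degV_dot (hWU μ) (L.NV_reg hM h.isP (h0 μ) (by simp))
  have dX : ∀ μ, degV M G ⬝ᵥ WX μ = 0 := fun μ => degV_dot (hWX μ) (L.neg.NV_reg hM hx.isP (h0' μ) (by simp))
  have hdo : degV M G ⬝ᵥ o = 1 := dot_oneV hM cast_degV (by simp)
  have hyd : ∀ j, degV M G ⬝ᵥ y j = 0 := fun j => by have := hy j (degV M G); rw [dU, dX] at this; omega
  obtain ⟨X₁, A, u1, uA, p1, p0, p2, -, eA, t1, t2⟩ := wr_lattice o (degV M G) y (isU_single _ (Or.inl rfl)) hdo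
    (fun j l => by
      have e1 := hy l (y j)
      have e2 := hy j (WU (aU l))
      have e3 := hy j (WX (aX l))
      rw [gUU, gUX] at e2
      rw [gXX, gXU] at e3
      rw [dotProduct_comm (y j) (WU _), dotProduct_comm (y j) (WX _)] at e1
      split_ifs at e2 e3 ⊢ <;> omega) hJ j₁
    (fun j => by
      have := hy j o
      rw [dotProduct_comm o, dotProduct_comm o, dotProduct_comm o, oU _ (hU1 j), oX _ (hX1 j)] at this
      omega) hyd
  -- the values of `X₁`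
  have hn1 : ∀ ψ, hx.sc ψ ≠ ψ → ψ ≠ 1 := fun ψ e e' => e (by rw [e', hx.sc_one])
  have hnn : ∀ ψ, hx.sc ψ ≠ ψ → WX ψ ⬝ᵥ WX ψ = 3 := fun ψ e => by
    rw [← Int.cast_inj (α := ℂ), gX _ _ (hn1 ψ e) (hn1 ψ e), pInd_pos rfl, pInd_neg e]; norm_num
  have hna : ∀ ψ, hx.sc ψ ≠ ψ → ∀ j, WX ψ ⬝ᵥ WX (aX j) = 2 := fun ψ e j => by
    rw [← Int.cast_inj (α := ℂ), gX _ _ (hn1 ψ e) (hX1 j), hXs, pInd_neg fun e' => e (by rw [← e', hXs])]
    norm_num
  have x1 : ∀ ψ, hx.sc ψ ≠ ψ → WX ψ ⬝ᵥ X₁ = 0 := fun ψ e => by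
    have := t1 (-WX ψ) (by rw [neg_dotProduct_neg, hnn ψ e]) (by rw [neg_dotProduct, oX _ (hn1 ψ e), neg_neg])
      fun j => by
        have := hy j (WX ψ)
        rw [gXU, hna ψ e] at this
        rw [neg_dotProduct]; omega
    rwa [neg_dotProduct, neg_eq_zero] at this
  have x2 : ∀ j, WX (aX j) ⬝ᵥ X₁ = 0 := fun j => by
    have := t2 (WX (aX j) - WX ψ₀) j 1 (Or.inl rfl) (by
        rw [sub_dotProduct, dotProduct_sub, dotProduct_sub, gXX, hnn _ hψ₀, dotProduct_comm (WX (aX j)), hna _ hψ₀]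
        simp)
      (by rw [sub_dotProduct, oX _ (hX1 j), oX _ (hn1 _ hψ₀), sub_self]) (by rw [dotProduct_sub, dX, dX, sub_self])
      fun l => by
        have := hy l (WX (aX j) - WX ψ₀)
        rw [sub_dotProduct _ _ (WU _), sub_dotProduct _ _ (WX _), gXU, gXU, gXX, hna _ hψ₀] at this
        split_ifs at this ⊢ <;> omega
    rwa [sub_dotProduct, x1 _ hψ₀, sub_zero] at this
  have hyX : ∀ j, X₁ ⬝ᵥ y j = -1 := fun j => by
    rw [eA, dotProduct_sub, dotProduct_sub, dotProduct_comm, p2, p1, show X₁ ⬝ᵥ X₁ = 1 from u1]; norm_num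
  have x3 : ∀ j, WU (aU j) ⬝ᵥ X₁ = -2 := fun j => by
    have := hy j X₁
    rw [hyX, dotProduct_comm X₁, dotProduct_comm X₁, x2] at this
    omega
  have x4 : ∀ μ, μ ≠ 1 → WU μ ⬝ᵥ X₁ = -2 := fun μ hμ => by
    by_cases e : ∃ ω ∈ W, ∀ u, μ (ω (s u)) = μ (ω u)
    · obtain ⟨ω, hω, e⟩ := e
      obtain ⟨j, hj⟩ := sU (cmpA μ ω) (cmpA_ne_one hμ ω) e
      rw [← x3 j, ← hj]
      refine congrArg (· ⬝ᵥ X₁) (funext fun χ => Int.cast_injective (α := ℂ) ?_)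
      rw [hWU, hWU, ← h.NV_comp L hω]; rfl
    have e1 : ∀ j, WU (aU j) ⬝ᵥ WU μ = 6 + 0 := fun j => gU _ _ (hU1 j) hμ _ (by
      rw [Int.cast_zero]
      exact Finset.sum_eq_zero fun ω _ => pInd_neg fun e' => e ⟨_, ω.2, fun u => by
        rw [cmpA_eq_iff.1 e', cmpA_eq_iff.1 e', hUs]⟩)
    have := t2 (WU μ - WU (aU j₁)) j₁ (-1) (Or.inr rfl) (by
        rw [sub_dotProduct, dotProduct_sub, dotProduct_sub, gUU, dotProduct_comm (WU μ) (WU (aU _)), e1,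
          gU _ _ hμ hμ 1 (by rw [h.cnt_gen hμ fun ω hω e' => e ⟨ω, hω, e'⟩]; simp)]
        simp)
      (by rw [sub_dotProduct, oU _ hμ, oU _ (hU1 _), sub_self]) (by rw [dotProduct_sub, dU, dU, sub_self])
      fun l => by
        have := hy l (WU μ - WU (aU j₁))
        rw [sub_dotProduct _ _ (WU _), sub_dotProduct _ _ (WX _), gUX, gUX, gUU, dotProduct_comm (WU μ), e1] at this
        split_ifs at this ⊢ <;> omega
    rw [sub_dotProduct, x3] at this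
    omega
  choose zv hzv using fun χ : PB M G => exists_int_of_mul_self χ.1.2.isGeneralizedCharacter hz2
  have ez : ∀ χ : PB M G, χ.1.1 z = (1 + Q) / 2 * L.col z₀ χ + (1 - Q) / 2 * L.neg.col x₀ χ := fun χ => by
    rw [show L.col z₀ χ = _ from h.col_of_mem L c₀ χ, show L.neg.col x₀ χ = _ from h.col_of_mem L.neg c₀ χ]
    simpa only [coe_one, mul_one, L.one] using L.apply_eq_E hc₀ 1 (by simp) (by simp) χ
  have zX : zv ⬝ᵥ X₁ = 1 + Q := by
    rw [← Int.cast_inj (α := ℂ), ← ev_of_int fun χ => (hzv χ).symm, funext ez, ev_lin,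
      L.ev_col h.comm 1 X₁ (f := (2 : ℂ) • lin 1) (fun μ => ?_) hz₀,
      L.neg.ev_col hx.comm 1 X₁ (f := 0) (fun ψ => ?_) hx₀]
    · simp
    · rw [classInner_zero_left]
      by_cases e : ψ = 1
      · simp [e, ev, LocZ.NV, classInner_zero_right]
      · rw [ev_of_int (hWX ψ), Int.cast_eq_zero]
        by_cases e' : hx.sc ψ = ψ
        · obtain ⟨j, rfl⟩ := sX ψ e e'
          exact x2 j
        · exact x1 ψ e'
    · by_cases e : μ = 1
      · simp [e, ev, LocZ.NV, classInner_zero_right]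
      · rw [ev_of_int (hWU μ), x4 μ e, classInner_smul_left, inner_one_sub e]; norm_num
  have hs₀ := (h.sfix z₀).2 h.zmem
  have zy : ∀ j (ε : ℤ), lin (aU j) (w z₀) = ε → zv ⬝ᵥ y j = (1 + Q) * (ε - 1) := fun j ε e => by
    have e1 : zv ⬝ᵥ WU (aU j) = 2 * ((1 + Q) * (ε - 1)) := by
      rw [dotProduct_comm]
      refine dot_eq_of (hWU _) (fun χ => (hzv χ).symm) ?_
      have e2 : lin (aU j) (w (w z₀)) = ε := by rw [← hs₀, ← h.sw, lin_apply, hUs, ← lin_apply, e]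
      simp only [ez, map_add, map_mul, mul_add, mul_left_comm (L.NV _ _ _), Finset.sum_add_distrib,
        ← Finset.mul_sum]
      rw [h.NV_col L hM ha' (h0 _) hz₀, L.sum_NV_mul (h0 _) _ (f := 0)
        fun u hu => h.cross L hM hx.isP hUX u x₀ hu hx₀, classInner_zero_left,
        h.sum fun ω => conj ((lin (aU j) - lin 1 : U → ℂ) (ω z₀))]
      simp only [MulAut.one_apply, MulAut.mul_apply, hs₀, Pi.sub_apply, e, e2, lin_one_apply, lin_apply (aU j) z₀,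
        hYa j _ hzY, map_sub, map_div₀, map_add, map_one, map_intCast, map_ofNat, Units.val_one]
      push_cast
      ring
    have e2 : zv ⬝ᵥ WX (aX j) = 0 := by
      rw [dotProduct_comm]
      refine dot_eq_of (hWX _) (fun χ => (hzv χ).symm) ?_
      simp only [ez, map_add, map_mul, mul_add, mul_left_comm (L.neg.NV _ _ _), Finset.sum_add_distrib,
        ← Finset.mul_sum]
      rw [L.neg.sum_NV_mul (h0' _) _ (f := 0) fun x hx' => by
          rw [LocZ.conj_sum (h.cross L hM hx.isP hUX z₀ x hz₀ hx'), map_zero, Pi.zero_apply],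
        L.neg.sum_NV_mul (h0' _) _ fun x hx' => hx.col_gram L.neg hM hb' x x₀ hx' hx₀, classInner_zero_left,
        classInner_def, Finset.sum_eq_zero fun x _ => ?_]
      · simp
      by_cases e3 : x = x₀
      · have : aX j x₀ = 1 := (hUX' j c₀).symm.trans (hYa j _ hzY)
        simp [e3, lin_apply, this]
      · simp [pInd_neg e3, pInd_neg fun e4 : hx.s x = x₀ => e3 (hx.s.injective (e4.trans (hx.s_inclusion c₀).symm))]
    have := hy j zv
    omega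
  -- pair sums
  have hQ' : (Q : ℂ) ≠ 0 := Int.cast_ne_zero.2 hQ0
  have py : ∀ j (ε : ℤ), lin (aU j) (w z₀) = ε →
      pairW zv (degV M G) (y j) = γ * ((2 + 2 * ε) / (Q + 1) - (Q + 1) / Q) := fun j ε e => by
    have e1 : pairW zv (degV M G) (WU (aU j)) = 2 * (γ * ((2 + 2 * ε) / (Q + 1) - (Q + 1) / Q)) := by
      refine pairW_eq (fun χ => (hzv χ).symm) (hWU _) ?_
      rw [h.pair_NV L hU hY hYs hYz hzY hYZ (r := γ * (32 * m ^ 2 / (1 + Q))) (fun c h1 h2 => by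
          rw [L.linE h1 _ (l₁ := 0) (l₂ := 0) fun y hy hc => by
            rw [hp0 c c.2 (fun e => h1 (Subtype.ext e)) h2 y hy (hc c c.2)]; ring, mul_zero])
        (by
          rw [L.linE hc₀ _ (l₁ := γ * (2 * m * ((1 + 1 / Q) + 4 * (2 * m - 1) / (1 + Q))))
            (l₂ := γ * (2 * m * (1 - 1 / Q))) fun y hy _ => by rw [hpz y hy]; ring]
          ring) hpu (hU1 j) (hYa j) e]
      push_cast
      rw [add_comm (Q : ℂ) 1]
      field_simp
      ring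
    have e2 : pairW zv (degV M G) (WX (aX j)) = 0 := by
      refine pairW_eq (fun χ => (hzv χ).symm) (hWX _) ?_
      rw [L.neg.sum_NV_mul (h0' _) _ fun _ _ => rfl, classInner_def, Finset.sum_eq_zero fun x _ => ?_]
      · simp
      by_cases e3 : x = x₀
      · have : aX j x₀ = 1 := (hUX' j c₀).symm.trans (hYa j _ hzY)
        simp [e3, lin_apply, this]
      by_cases e4 : x = 1
      · simp [e4]
      refine mul_eq_zero_of_left ?_ _
      by_cases e5 : (x : G) ∈ Z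
      · simp only [hx.col_of_mem L.neg ⟨x, e5⟩]
        rw [L.neg.linE (fun e => e4 (Subtype.ext (congrArg Subtype.val e :))) _ (l₁ := 0) (l₂ := 0) fun y hy hc => by
          rw [hp0 x e5 (fun e => e4 (Subtype.ext e)) (fun e => e3 (Subtype.ext e)) y hy (hc x e5)]; ring, mul_zero]
      · simp only [hx.col_of_notMem L.neg x.2 e5]
        exact hpx x e5
    have e3 : 2 * pairW zv (degV M G) (y j) = pairW zv (degV M G) (WU (aU j)) + pairW zv (degV M G) (WX (aX j)) := by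
      rw [← pairW_add, two_mul, ← pairW_add]
      congr 1
      funext χ
      simpa [two_mul] using hy j (Pi.single χ 1)
    rw [e1, e2] at e3
    linarith
  have hzo : zv ⬝ᵥ o = 1 := dot_oneV hM (fun χ => (hzv χ).symm) (by simp)
  have hPo : pairW zv (degV M G) o = 1 := by
    rw [IsU.pairW (e := o) (isU_single _ (Or.inl rfl)), hdo, hzo]; simp
  have gA : ∀ j, degV M G ⬝ᵥ A j = 1 + degV M G ⬝ᵥ X₁ := fun j => by
    have := hyd j
    rw [eA, dotProduct_sub, dotProduct_sub, hdo] at this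
    omega
  have fin : ∀ j (ε : ℤ), lin (aU j) (w z₀) = ε → ((1 + ε * (1 + Q) : ℤ) : ℚ) ^ 2 / ((1 + degV M G ⬝ᵥ X₁ : ℤ) : ℚ) - 1 -
      ((1 + Q : ℤ) : ℚ) ^ 2 / ((degV M G ⬝ᵥ X₁ : ℤ) : ℚ) = γ * ((2 + 2 * ε) / (Q + 1) - (Q + 1) / Q) := fun j ε e => by
    have e1 := zy j ε e
    rw [eA, dotProduct_sub, dotProduct_sub, hzo, zX] at e1
    rw [← py j ε e, eA, pairW_sub, pairW_sub, hPo, IsU.pairW (uA j), IsU.pairW u1, gA, zX,
      show zv ⬝ᵥ A j = 1 + ε * (1 + Q) by linear_combination e1]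
  have E₁ := fin j₁ 1 (by simp [lin_apply, h₁])
  have E₂ := fin j₂ (-1) (by simp [lin_apply, h₂])
  push_cast at E₁ E₂
  have hx := (wr_arith (γ := γ) (IsU.dot_ne_zero u1 degV_ne_zero) (gA j₁ ▸ IsU.dot_ne_zero (uA j₁) degV_ne_zero) hQ0 hQ1 hQ2
    (by linear_combination E₁) (by linear_combination E₂)).1
  refine ⟨X₁, A j₂, u1, uA j₂, (dotProduct_comm _ _).trans (p0 j₂), (dotProduct_comm _ _).trans (p2 j₂), hx,
    by rw [gA, hx], ?_, fun χ => ?_⟩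
  · have e1 := zy j₂ (-1) (by simp [lin_apply, h₂])
    rw [eA, dotProduct_sub, dotProduct_sub, hzo, zX] at e1
    rw [chr, ev_of_int fun χ => (hzv χ).symm, show zv ⬝ᵥ A j₂ = -Q by linear_combination e1]
  · have := hy j₂ (Pi.single χ 1)
    simp only [single_dotProduct, one_mul] at this
    beta_reduce
    rw [← eA, ← hWU, ← hWX]
    exact_mod_cast this

theorem wr_pack {S : Sylow 2 G} {n : ℕ} (D : WR (S : Subgroup G) n) (hM : IsPModular 2 M)
    (hR : pResidual 2 G = ⊤) {z : G} (hz' : z = D.u (2 * zq n) (2 * zq n)) {k : ℕ} (hk : n = k + 2) {F : Type*}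
    [Field F] [Fintype F] (hF : Odd (Fintype.card F)) (hL : HasNormalSL2 z F) [Fintype D.U] [Fintype (D.W 0 1)]
    {j₂ : Multiplicative (ZMod (2 ^ n)) →* ℂˣ} (h3 : j₂ (.ofAdd (2 * zq n)) ≠ 1) :
    ∃ (φ : centralizer ({z} : Set G) → ℂ) (Q : ℤ) (L : LocZ M z D.Z φ Q (2 ^ n * 2 ^ (k + 1)) (2 ^ n))
      (aU : D.U →* ℂˣ) (aX : D.W 0 1 →* ℂˣ), (Q = Fintype.card F ∨ Q = -(Fintype.card F : ℤ)) ∧
      (∀ c c' : D.Z, IsConj (c : G) c' → c = c') ∧
      (∀ i j h, aU ⟨D.u i j, h⟩ = j₂ (.ofAdd (i + j))) ∧ (∀ i j h, aX ⟨D.u i j, h⟩ = j₂ (.ofAdd (i + j))) ∧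
      (∀ i j h, aX ⟨D.v i j, h⟩ = j₂ (.ofAdd (i + j + 2 * zq n))) ∧
      HasY hM z (fun χ => L.NV D.U (lin aU - lin 1) χ + L.neg.NV (D.W 0 1) (lin aX - lin 1) χ) (Q ^ 2 + Q) (-Q) := by
  obtain ⟨hU, hV⟩ := D.fu_fv_of_pResidual_eq_top hR
  have := Fintype.ofFinite (D.U.normalizerMonoidHom).range
  obtain ⟨s, w, hs, h⟩ := exists_TU D hM hR
  rw [← hz'] at h
  have hx := wr_tx D hM h.inj
  have hle : (S : Subgroup G) ≤ centralizer {z} := hz' ▸ wr_cent D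
  obtain ⟨δ, φ, Q, du, dv, hodd, ⟨L⟩, ⟨e, he⟩, hQF, h0, hpz, hpu⟩ := wr_local D hM hU hV hz' hle h.zpow hk hF hL
  have h4 : 2 ^ n = 4 * 2 ^ k := by rw [hk]; ring
  set δU := δ.comp (inclusion (D.U_le.trans hle))
  set δX := δ.comp (inclusion ((D.W_le 0 1).trans hle))
  have hδ : ∀ g x : centralizer ({z} : Set G), δ (g * x * g⁻¹) = δ x := fun g x => by simp
  have sU : Function.Surjective δU := fun a => ⟨⟨_, D.u_mem_U a.toAdd 0⟩, (du _ _).trans (by simp)⟩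
  have sX : Function.Surjective δX := fun a => by
    obtain ⟨r, hr | hr⟩ := zm_even_or_odd a.toAdd
    · exact ⟨⟨_, (wr_mem_X D).2 ⟨r, Or.inl rfl⟩⟩, (du _ _).trans (by rw [← two_mul, ← hr]; rfl)⟩
    · exact ⟨⟨_, (wr_mem_X D).2 ⟨r - zq n, Or.inr rfl⟩⟩, (dv _ _).trans (by
        rw [← ofAdd_toAdd a, hr]; exact congrArg _ (by ring))⟩
  have hs' : ∀ u, δU (s u) = δU u := fun u =>
    (congrArg δ (Subtype.ext (hs u))).trans (hδ ((D.subgroupOf hle).v 0 0) (inclusion (D.U_le.trans hle) u))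
  have hker : ∀ x ∈ D.W 0 1, ∀ hx, δ ⟨x, hx⟩ = 1 → x = 1 ∨ x = z := fun x hx _ e => by
    obtain ⟨a, rfl | rfl⟩ := (wr_mem_X D).1 hx
    · obtain rfl | rfl := zm_two_mul_eq_zero D.two_le ((two_mul a).trans (ofAdd_eq_one.1 ((du _ _).symm.trans e)))
      exacts [Or.inl D.u_zero, Or.inr hz'.symm]
    · exact (zm_even_ne_odd (by omega) 0 (a + zq n) (by
        linear_combination -ofAdd_eq_one.1 ((dv _ _).symm.trans e))).elim
  have hz1 : ∀ ψ, hx.sc ψ = ψ → ψ ⟨z, hx.le h.zmem⟩ = 1 := fun ψ e => by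
    rw [show (⟨z, hx.le h.zmem⟩ : D.W 0 1) = hx.s ⟨_, D.v_mem_W_self 0 1⟩ * ⟨_, D.v_mem_W_self 0 1⟩⁻¹ from
      Subtype.ext (by simp [hx.coe_s, D.conj_u_v, D.v_inv, D.v_mul_v, hz', D.u_eq_iff]; linear_combination D.h4),
      map_mul, ← hx.sc_apply, e]
    simp
  obtain ⟨ψ₀, hψ₀⟩ := exists_lin_apply_ne_one hx.comm (y := ⟨z, hx.le h.zmem⟩)
    fun e => ne_one_of_orderOf_two h.hz (congrArg Subtype.val e)
  have hw : δU (w ⟨z, h.le h.zmem⟩) = .ofAdd (2 * zq n) := by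
    obtain ⟨⟨x, hx⟩, e⟩ : ∃ x, w ⟨z, h.le h.zmem⟩ = x := ⟨_, rfl⟩
    obtain rfl | rfl | rfl | ⟨i, rfl⟩ := D.involution_cases (D.U_le hx) (by
      rw [← orderOf_mk _ hx, ← e, MulEquiv.orderOf_eq, orderOf_mk, h.hz])
    · exact (ne_one_of_orderOf_two h.hz (congrArg Subtype.val (h.wfix _ (e.trans (Subtype.ext hz'.symm))))).elim
    · rw [e]; exact (du _ _).trans (by simp)
    · rw [e]; exact (du _ _).trans (by simp)
    · exact (D.v_not_mem_U _ _ hx).elim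
  obtain ⟨j₁, h1, h2⟩ := exists_lin_ne_one mul_comm (V := zpowers (Multiplicative.ofAdd (2 * zq n))) fun e => by
    obtain ⟨m, hm⟩ := e.ge (mem_top (.ofAdd 1))
    have h5 : m • (2 * zq n) = 1 := congrArg Multiplicative.toAdd hm
    exact zm_even_ne_odd (n := n) (by omega) (m * zq n) 0 (by linear_combination h5 - zsmul_eq_mul (2 * zq n) m)
  have hcard : ∀ l : List (Multiplicative (ZMod (2 ^ n)) →* ℂˣ), l.length ≤ 3 → ∃ μ, μ ∉ l := fun l hl =>
    exists_notMem_list l (by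
      rw [card_lin mul_comm, Nat.card_congr Multiplicative.toAdd, Nat.card_zmod]
      have := Nat.one_le_two_pow (n := k); omega)
  have hzp : ∀ {c : G} {y : centralizer ({z} : Set G)}, c ∈ D.Z → c ≠ 1 → ¬ 2 ∣ orderOf y → Commute c y →
      z ∈ zpowers (c * y) := fun hc h1 hy hcy => (mem_zpowers_iff_of_isPPart h.hz (isPPart_mul hcy
        (exists_orderOf_eq_of_mem D.isPGroup (D.Z_le hc)) (by rwa [orderOf_coe]))).2 (h.zpow _ hc h1)
  have hY : ∀ u ∈ δU.ker, ∃ i, u = D.u i (-i) := fun ⟨u, hu⟩ e => by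
    obtain ⟨i, j, rfl⟩ := D.mem_U.1 hu
    exact ⟨i, congrArg (D.u i) (eq_neg_of_add_eq_zero_right (ofAdd_eq_one.1 ((du _ _).symm.trans e)))⟩
  have key := wr_coreW hM h hx (m := 2 ^ k) (D.card_Z.trans h4) (by rw [D.card_U, ← h4, two_mul, pow_add])
    (by rw [D.card_W_zero, h4, mul_comm]) L (by rw [h4]; ring) h4 (k := -e)
    (by push_cast; linear_combination -he) (fun ⟨u, hu⟩ ⟨x, hx⟩ e => by
      obtain ⟨i, j, rfl⟩ := D.mem_U.1 hu
      obtain ⟨a, rfl | rfl⟩ := (wr_mem_X D).1 hx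
      exacts [D.u_mem_Z.2 rfl, (wr_not_isConj D _ _ _ e).elim])
    (J := {α : Multiplicative (ZMod (2 ^ n)) →* ℂˣ // α ≠ 1}) (fun j => j.1.comp δU) (fun j => j.1.comp δX)
    (fun _ _ e => Subtype.ext ((MonoidHom.cancel_right sU).1 e))
    (fun _ _ e => Subtype.ext ((MonoidHom.cancel_right sX).1 e))
    (fun j e => j.2 ((MonoidHom.cancel_right sU).1 e)) (fun j e => j.2 ((MonoidHom.cancel_right sX).1 e))
    (fun j => MonoidHom.ext fun x => congrArg j.1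
      (hδ ((D.subgroupOf hle).u (2 * zq n) 0) (inclusion ((D.W_le 0 1).trans hle) x)))
    (fun μ h1 h2 => by
      obtain ⟨α, rfl⟩ := exists_eq_comp sU (μ := μ) fun u e => by
        obtain ⟨i, hi⟩ := hY u e
        rw [show u = s ⟨_, D.u_mem_U 0 i⟩ * ⟨_, D.u_mem_U 0 i⟩⁻¹ from Subtype.ext (by
          simp [hi, hs, D.conj_v_u, D.u_inv, D.u_mul_u]), map_mul, h2]
        simp
      exact ⟨⟨α, fun e => h1 (by rw [e]; rfl)⟩, rfl⟩)
    (fun ψ h1 h2 => by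
      obtain ⟨α, rfl⟩ := exists_eq_comp sX (μ := ψ) fun x e => (hker x x.2 _ e).elim
        (fun e => by rw [show x = 1 from Subtype.ext e, map_one]) fun e => (congrArg ψ (Subtype.ext e)).trans (hz1 ψ h2)
      exact ⟨⟨α, fun e => h1 (by rw [e]; rfl)⟩, rfl⟩)
    (fun _ _ => rfl) (fun e => hψ₀ (hz1 _ e))
    (fun j => by
      obtain ⟨a, ha⟩ := hcard [1, j.1] (by simp)
      obtain ⟨b, hb⟩ := hcard [1, j.1, a] (by simp)
      simp only [List.mem_cons, List.not_mem_nil, or_false, not_or] at ha hb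
      exact ⟨⟨a, ha.1⟩, ⟨b, hb.1⟩, fun e => ha.2 (congrArg Subtype.val e).symm,
        fun e => hb.2.1 (congrArg Subtype.val e).symm, fun e => hb.2.2 (congrArg Subtype.val e).symm⟩)
    (fun j χ => by
      set f : G → ℂ := fun g =>
        if hg : g ∈ centralizer ({z} : Set G) then χ.1.1 g * conj ((j.1 (δ ⟨g, hg⟩) : ℂ) - 1) else 0
      have e1 : ∀ K (hK : K ≤ (S : Subgroup G)) [Fintype K], classInner (fun x : K => χ.1.1 x)
          (lin (j.1.comp (δ.comp (inclusion (hK.trans hle)))) - lin 1) = (Nat.card K : ℂ)⁻¹ * ∑ x : K, f x :=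
        fun K hK _ => by
          rw [classInner_def]
          exact congrArg _ (Finset.sum_congr rfl fun x _ => by simp only [f, dif_pos (hle (hK x.2))]; rfl)
      rw [e1 _ D.U_le, e1 _ (D.W_le 0 1)]
      refine wr_par D hV (fun g hg x => ?_) fun K hK _ => e1 K hK ▸
        (χ.1.2.isGeneralizedCharacter.restrict K).exists_int_classInner ((isGenChar_lin _).sub (isGenChar_lin 1))
      have hg' : g ∈ centralizer ({z} : Set G) := mem_centralizer_singleton_iff.2 (hg z h.zmem).symm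
      by_cases hx : x ∈ centralizer ({z} : Set G)
      · simp only [f, dif_pos hx, dif_pos (mul_mem (mul_mem hg' hx) (inv_mem hg')), χ.1.2.isClassFunction _ _]
        rw [← hδ ⟨g, hg'⟩ ⟨x, hx⟩]; rfl
      · simp only [f, dif_neg hx, mul_mem_cancel_right (inv_mem hg'), mul_mem_cancel_left hg'])
    (Y := δU.ker) (by
      have h5 := δU.ker.card_mul_index
      rw [index_ker, δU.range_eq_top.2 sU, card_top, Nat.card_congr Multiplicative.toAdd, Nat.card_zmod, D.card_U,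
        two_mul, pow_add] at h5
      exact (mul_right_cancel₀ (by positivity) h5).trans h4)
    (fun u => by rw [MonoidHom.mem_ker, map_mul, hs']; simp)
    (fun y hy h1 => by
      obtain ⟨x, hx, h2⟩ := exists_involution_mem_zpowers (fun e => h1 (Subtype.ext e))
        (exists_orderOf_eq_of_mem h.isP y.2)
      obtain ⟨i, hi⟩ := hY y hy
      have h3 := D.mcY.quaternion_involution (zpowers_le_of_mem (hi ▸ D.u_mem_Y.2 (add_neg_cancel i)) hx)
        (mul_self_of_orderOf_two h2)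
      rwa [hz', ← D.mcY_z, ← h3.resolve_left (ne_one_of_orderOf_two h2)])
    (by subst hz'; exact (du _ _).trans (ofAdd_eq_one.2 (by linear_combination D.h4)))
    (fun y hy h1 => hker _ (D.Z_le_W _ _ h1) _ hy) (fun j y hy => (congrArg j.1 hy).trans (map_one _))
    (j₁ := ⟨j₁, h1⟩) (j₂ := ⟨j₂, fun e => h3 (by rw [e]; rfl)⟩) ((congrArg j₁ hw).trans (h2 _ (mem_zpowers _)))
    ((congrArg j₂ hw).trans (Units.ext ((mul_self_eq_one_iff.1 (by
      rw [← Units.val_mul, ← map_mul, ← ofAdd_add, show 2 * zq n + 2 * zq n = 0 by linear_combination D.h4]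
      simp)).resolve_left fun e => h3 (Units.ext e)))) (γ := gam z (D.u (2 * zq n) 0))
    (fun c hc h1 h2 y hy hcy => h0 (⟨c, hle (D.Z_le hc)⟩ * y) (hzp hc h1 hy hcy) fun e => by
      rw [map_mul, hodd y hy, mul_one] at e
      exact (hker c (D.Z_le_W _ _ hc) _ e).elim h1 h2)
    (fun y hy => (hpz y hy).trans (by push_cast; rfl))
    (fun ⟨x, hx⟩ h1 => h0 ⟨x, hle (D.W_le _ _ hx)⟩ (by
      obtain ⟨a, rfl | rfl⟩ := (wr_mem_X D).1 hx
      · exact (h1 (D.u_mem_Z.2 rfl)).elim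
      · refine zpowers_le_of_mem (mul_mem (mem_zpowers _) (mem_zpowers _)) (h.zpow _ ?_ ?_) <;> rw [D.v_mul_self]
        · exact D.u_mem_Z.2 rfl
        · exact fun e => zm_even_ne_odd (by omega) 0 a (by linear_combination -(D.u_eq_one_iff.1 e).1))
      fun e => h1 ((hker x hx _ e).elim (fun e => e ▸ one_mem _) fun e => e ▸ h.zmem))
    fun u h1 h2 => by
      by_cases hu : u ∈ δU.ker
      · obtain ⟨i, hi⟩ := hY u hu
        rw [hi] at h1 h2 ⊢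
        rw [pInd_pos hu, mul_one, hpu i h1 h2]
        push_cast; rfl
      · rw [pInd_neg hu, mul_zero]
        exact h0 (inclusion (D.U_le.trans hle) u) h1 hu
  exact ⟨φ, Q, L, j₂.comp δU, j₂.comp δX, hQF, h.inj, fun i j _ => congrArg j₂ (du i j),
    fun i j _ => congrArg j₂ (du i j), fun i j _ => congrArg j₂ (dv i j), key⟩

end CL.ABG
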